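import Cfsg.Agent.Lib.NilCover.Dim2

/-!
# Fewer small subspaces than flags
-/

set_option autoImplicit false

namespace Cfsg.Agent.Lib.NilCover

open Matrix Module

variable {F : Type*} [Field F] {n : ℕ}

/-- The subspaces of dimension between `1` and `n / 2`. -/
def Small (F : Type*) [Field F] (n : ℕ) : Type _ :=
  {W : Submodule F (Fin n → F) // 1 ≤ finrank F W ∧ finrank F W ≤ n / 2}

/-- The flags. -/
def Flags (F : Type*) [Field F] (n : ℕ) : Type _ := Set.range (Fl : GL (Fin n) F → ℕ → Submodule F (Fin n → F))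

variable [Finite F]

instance : Finite (Small F n) := by
  unfold Small
  haveI : Finite (Submodule F (Fin n → F)) := Finite.of_injective (fun a => (a : Set (Fin n → F))) SetLike.coe_injective
  exact Subtype.finite

instance : Finite (Flags F n) := by
  unfold Flags
  exact (Set.finite_range _).to_subtype

instance : Nonempty (Flags F n) := ⟨⟨Fl 1, ⟨1, rfl⟩⟩⟩

omit [Finite F] in
theorem exists_adapted (W : Submodule F (Fin n → F)) : ∃ g : GL (Fin n) F, Fl g (finrank F W) = W := by
  obtain ⟨C, hC⟩ := Submodule.exists_isCompl W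
  have hsum : finrank F W + finrank F C = n := by
    rw [Submodule.finrank_add_eq_of_isCompl hC, finrank_pi, Fintype.card_fin]
  let bW := Module.finBasis F W
  let bC := Module.finBasis F C
  let b : Module.Basis (Fin n) F (Fin n → F) :=
    ((bW.prod bC).map (Submodule.prodEquivOfIsCompl W C hC)).reindex (finSumFinEquiv.trans (finCongr hsum))
  let e : (Fin n → F) ≃ₗ[F] (Fin n → F) := b.equivFun.symm
  refine ⟨Matrix.GeneralLinearGroup.toLin.symm (LinearMap.GeneralLinearGroup.ofLinearEquiv e), ?_⟩
  set g := Matrix.GeneralLinearGroup.toLin.symm (LinearMap.GeneralLinearGroup.ofLinearEquiv e)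
  have hg : ∀ v, (g : Matrix (Fin n) (Fin n) F) *ᵥ v = e v := by
    intro v
    have h := Matrix.GeneralLinearGroup.toLin.apply_symm_apply (LinearMap.GeneralLinearGroup.ofLinearEquiv e)
    have h2 := LinearMap.congr_fun (congrArg Units.val h) v
    exact h2
  have hb : ∀ (i : Fin n) (hi : i.1 < finrank F W), b i = (bW ⟨i.1, hi⟩ : Fin n → F) := by
    intro i hi
    have hs : (finSumFinEquiv.trans (finCongr hsum)).symm i = Sum.inl ⟨i.1, hi⟩ := by
      rw [Equiv.symm_apply_eq]
      ext
      simp
    simp only [b, Module.Basis.reindex_apply, hs]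
    simp
  apply le_antisymm
  · rintro _ ⟨v, hv, rfl⟩
    rw [mulVecLin_apply, hg]
    simp only [e, Module.Basis.equivFun_symm_apply]
    refine Submodule.sum_mem _ fun i _ => ?_
    by_cases hi : i.1 < finrank F W
    · rw [hb i hi]; exact Submodule.smul_mem _ _ (bW ⟨i.1, hi⟩).2
    · rw [mem_E.1 hv i (by omega), zero_smul]; exact Submodule.zero_mem _
  · intro w hw
    rw [show w = ((⟨w, hw⟩ : W) : Fin n → F) from rfl, ← bW.sum_repr ⟨w, hw⟩, AddSubmonoidClass.coe_finsetSum]
    refine Submodule.sum_mem _ fun i _ => ?_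
    rw [SetLike.val_smul]
    refine Submodule.smul_mem _ _ ⟨Pi.single ⟨i.1, by omega⟩ 1, ?_, ?_⟩
    · exact mem_E.2 fun j hj => Pi.single_eq_of_ne (fun e => by subst e; simp at hj; omega) _
    · rw [mulVecLin_apply, hg]
      simp only [e, Module.Basis.equivFun_symm_apply]
      rw [Finset.sum_eq_single (⟨i.1, by omega⟩ : Fin n)]
      · rw [Pi.single_eq_same, one_smul, hb _ i.2]
      · intro j _ hj; rw [Pi.single_eq_of_ne hj, zero_smul]
      · simp

/-- Permutation matrices. -/
noncomputable def pg (σ : Equiv.Perm (Fin n)) : GL (Fin n) F :=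
  Matrix.GeneralLinearGroup.toLin.symm
    (LinearMap.GeneralLinearGroup.ofLinearEquiv (LinearEquiv.funCongrLeft F F σ.symm))

omit [Finite F] in
theorem mem_Fl_mul_pg {g : GL (Fin n) F} {σ : Equiv.Perm (Fin n)} {k : ℕ} {v : Fin n → F} :
    v ∈ Fl (g * pg σ) k ↔ ∀ m : Fin n, k ≤ (σ.symm m).1 → (((g⁻¹ : GL (Fin n) F) : Matrix (Fin n) (Fin n) F) *ᵥ v) m = 0 := by
  have hp : ∀ w : Fin n → F, ((pg σ : GL (Fin n) F) : Matrix (Fin n) (Fin n) F) *ᵥ w = fun m => w (σ.symm m) := by
    intro w
    have h := Matrix.GeneralLinearGroup.toLin.apply_symm_apply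
      (LinearMap.GeneralLinearGroup.ofLinearEquiv (LinearEquiv.funCongrLeft F F σ.symm))
    have h2 := LinearMap.congr_fun (congrArg Units.val h) w
    exact h2
  constructor
  · rintro ⟨w, hw, rfl⟩ m hm
    rw [mulVecLin_apply, Units.val_mul, ← mulVec_mulVec, inv_mulVec_cancel, hp]
    exact mem_E.1 hw _ hm
  · intro h
    refine ⟨fun i => (((g⁻¹ : GL (Fin n) F) : Matrix (Fin n) (Fin n) F) *ᵥ v) (σ i), mem_E.2 fun i hi => ?_, ?_⟩
    · exact h _ (by rwa [Equiv.symm_apply_apply])
    · rw [mulVecLin_apply, Units.val_mul, ← mulVec_mulVec, hp]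
      simp only [Equiv.apply_symm_apply]
      exact mulVec_inv_cancel g v

omit [Finite F] in
theorem single_mem_iff {g : GL (Fin n) F} {σ : Equiv.Perm (Fin n)} {k : ℕ} (j : Fin n) :
    (g : Matrix (Fin n) (Fin n) F) *ᵥ Pi.single j 1 ∈ Fl (g * pg σ) k ↔ (σ.symm j).1 < k := by
  rw [mem_Fl_mul_pg, inv_mulVec_cancel]
  constructor
  · intro h
    by_contra hc
    have := h j (by omega)
    rw [Pi.single_eq_same] at this
    exact one_ne_zero this
  · intro h m hm
    exact Pi.single_eq_of_ne (fun e => by subst e; omega) _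

/-- Many flags pass through each subspace of dimension `d`. -/
theorem card_level (d : ℕ) (hd : 1 ≤ d) (hdn : d < n) :
    Nat.card {W : Submodule F (Fin n → F) // finrank F W = d} * (d * (n - d)) ≤ Nat.card (Flags F n) := by
  classical
  choose g hg using fun W : Submodule F (Fin n → F) => exists_adapted W
  let first : Fin d → Fin n := fun i => ⟨i.1, by omega⟩
  let next : Fin (n - d) → Fin n := fun j => ⟨d + j.1, by omega⟩
  let σ : Fin d × Fin (n - d) → Equiv.Perm (Fin n) := fun p =>
    Equiv.swap ⟨0, by omega⟩ (first p.1) * Equiv.swap ⟨d, hdn⟩ (next p.2)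
  have hsymm : ∀ p m, (σ p).symm m = Equiv.swap ⟨d, hdn⟩ (next p.2) (Equiv.swap ⟨0, by omega⟩ (first p.1) m) := by
    intro p m
    rw [Equiv.symm_apply_eq]
    simp [σ, Equiv.Perm.mul_apply]
  have hnext : ∀ (p : Fin d × Fin (n - d)) (j : Fin (n - d)), Equiv.swap ⟨0, by omega⟩ (first p.1) (next j) = next j := by
    intro p j
    refine Equiv.swap_apply_of_ne_of_ne ?_ ?_ <;>
      · intro e; have := p.1.2; have e' := congrArg Fin.val e; simp [first, next] at e'; omega
  -- the d-th step of each flag is the subspace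
  have hstep : ∀ (W : {W : Submodule F (Fin n → F) // finrank F W = d}) p, Fl (g W.1 * pg (σ p)) d = W.1 := by
    intro W p
    conv_rhs => rw [← hg W.1, W.2]
    ext v
    rw [mem_Fl_mul_pg, mem_Fl, mem_E]
    have key : ∀ m : Fin n, d ≤ ((σ p).symm m).1 ↔ d ≤ m.1 := by
      intro m
      have := p.1.2
      have := p.2.2
      rw [hsymm]
      simp only [Equiv.swap_apply_def, Fin.ext_iff, first, next, apply_ite Fin.val]
      split_ifs <;> omega
    simp only [key]
  rw [show d * (n - d) = Nat.card (Fin d × Fin (n - d)) by rw [Nat.card_prod, Nat.card_fin, Nat.card_fin],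
    ← Nat.card_prod]
  refine Nat.card_le_card_of_injective (fun x => ⟨Fl (g x.1.1 * pg (σ x.2)), ⟨_, rfl⟩⟩) ?_
  rintro ⟨W, p⟩ ⟨W', p'⟩ h
  have h : Fl (g W.1 * pg (σ p)) = Fl (g W'.1 * pg (σ p')) := congrArg Subtype.val h
  obtain rfl : W = W' := Subtype.ext ((hstep W p).symm.trans ((congrFun h d).trans (hstep W' p')))
  refine Prod.ext rfl ?_
  show p = p'
  have h1 : p.1 = p'.1 := by
    have hm : (g W.1 : Matrix (Fin n) (Fin n) F) *ᵥ Pi.single (first p.1) 1 ∈ Fl (g W.1 * pg (σ p)) 1 := by
      rw [single_mem_iff, hsymm, Equiv.swap_apply_right,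
        Equiv.swap_apply_of_ne_of_ne (fun e => by have := congrArg Fin.val e; simp at this; omega)
          (fun e => by have := congrArg Fin.val e; simp [next] at this; omega)]
      exact Nat.one_pos
    rw [h, single_mem_iff, hsymm] at hm
    have := p.1.2
    have := p'.1.2
    have := p'.2.2
    simp only [Equiv.swap_apply_def, Fin.ext_iff, first, next, apply_ite Fin.val] at hm
    apply Fin.ext
    split_ifs at hm <;> omega
  have h2 : p.2 = p'.2 := by
    have hm : (g W.1 : Matrix (Fin n) (Fin n) F) *ᵥ Pi.single (next p.2) 1 ∈ Fl (g W.1 * pg (σ p)) (d + 1) := by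
      rw [single_mem_iff, hsymm, hnext, Equiv.swap_apply_right]
      exact Nat.lt_succ_self d
    rw [h, single_mem_iff, hsymm, hnext] at hm
    have := p.2.2
    have := p'.2.2
    simp only [Equiv.swap_apply_def, Fin.ext_iff, next, apply_ite Fin.val] at hm
    apply Fin.ext
    split_ifs at hm <;> omega
  exact Prod.ext h1 h2

theorem small_le (hn : 2 ≤ n) : Nat.card (Small F n) ≤ Nat.card (Flags F n) ∧
    (3 ≤ n → Nat.card (Small F n) < Nat.card (Flags F n)) := by
  classical
  set h := n / 2 with hh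
  haveI : Finite (Submodule F (Fin n → F)) := Finite.of_injective (fun a => (a : Set (Fin n → F))) SetLike.coe_injective
  let e : Small F n ≃ Σ i : Fin h, {W : Submodule F (Fin n → F) // finrank F W = i.1 + 1} :=
    { toFun := fun W => ⟨⟨finrank F W.1 - 1, by have h1 := W.2.1; have h2 : finrank F W.1 ≤ h := W.2.2; omega⟩,
        ⟨W.1, by have := W.2.1; simp; omega⟩⟩
      invFun := fun x => ⟨x.2.1, ⟨by have := x.2.2; omega, by have := x.2.2; have := x.1.2; omega⟩⟩
      left_inv := fun W => rfl
      right_inv := by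
        rintro ⟨i, W, hW⟩
        obtain ⟨i, hi⟩ := i
        obtain rfl : i = finrank F W - 1 := by simp at hW; omega
        rfl }
  have hcard : Nat.card (Small F n) = ∑ i : Fin h, Nat.card {W : Submodule F (Fin n → F) // finrank F W = i.1 + 1} := by
    rw [Nat.card_congr e, Nat.card_sigma]
  set Φ := Nat.card (Flags F n) with hΦ
  have hlev : ∀ i : Fin h, Nat.card {W : Submodule F (Fin n → F) // finrank F W = i.1 + 1} * ((i.1 + 1) * (n - (i.1 + 1))) ≤ Φ :=
    fun i => card_level (i.1 + 1) (by omega) (by have := i.2; omega)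
  by_cases hn3 : 3 ≤ n
  · have hbound : Nat.card (Small F n) * (h + 1) ≤ h * Φ := by
      rw [hcard, Finset.sum_mul]
      calc _ ≤ ∑ _i : Fin h, Φ := by
            refine Finset.sum_le_sum fun i _ => le_trans (Nat.mul_le_mul le_rfl ?_) (hlev i)
            have := i.2
            rcases Nat.eq_zero_or_pos i.1 with h0 | h0
            · rw [h0]; omega
            · calc h + 1 ≤ 2 * (n - (i.1 + 1)) := by omega
                _ ≤ _ := Nat.mul_le_mul_right _ (by omega)
        _ = h * Φ := by simp
    have hpos : 0 < Φ := Nat.card_pos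
    have hlt : Nat.card (Small F n) < Φ := by
      by_contra hc
      push Not at hc
      have := Nat.mul_le_mul_right (h + 1) hc
      nlinarith
    exact ⟨hlt.le, fun _ => hlt⟩
  · obtain rfl : n = 2 := by omega
    refine ⟨?_, fun h3 => absurd h3 hn3⟩
    have h1 : h = 1 := by omega
    rw [hcard]
    calc _ ≤ ∑ _i : Fin h, Φ := Finset.sum_le_sum fun i _ => by
          have := hlev i
          have hi := i.2
          rw [show (i.1 + 1) * (2 - (i.1 + 1)) = 1 by rw [show i.1 = 0 by omega]] at this
          simpa using this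
      _ = Φ := by simp [h1]

end Cfsg.Agent.Lib.NilCover
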