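import Cfsg.Agent.Lib.NilCover.Sep
import Cfsg.Agent.Lib.GLn.PGLTwoSylow

/-!
# Dimension two: a split element lying with no witness and no unipotent element
-/

set_option autoImplicit false

namespace Cfsg.Agent.Lib.NilCover

open Matrix Module

variable {F : Type*} [Field F] [Fintype F]

/-- A split element. -/
def IsSplit (s : GL (Fin 2) F) : Prop :=
  (s : Matrix (Fin 2) (Fin 2) F).det = 1 ∧ (∀ i j : Fin 2, i ≠ j → (s : Matrix (Fin 2) (Fin 2) F) i j = 0) ∧
    (s : Matrix (Fin 2) (Fin 2) F) 0 0 ≠ (s : Matrix (Fin 2) (Fin 2) F) 1 1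

theorem split_eigen {a : Tori F 2} {s : GL (Fin 2) F} (hs : IsSplit s) : (s : Matrix (Fin 2) (Fin 2) F) ∉ a.1 := by
  intro h
  obtain ⟨-, hoff, hne⟩ := hs
  have := eigen a.2.1 h (v := Pi.single 0 1) (c := (s : Matrix (Fin 2) (Fin 2) F) 0 0)
    (fun e => by simpa using congrFun e 0)
    (by funext i; fin_cases i <;> simp [mulVec_single, hoff])
  apply hne
  have h1 := congrFun (congrFun this 1) 1
  simpa [Matrix.algebraMap_matrix_apply] using h1.symm

theorem split_not_unip (p : ℕ) [Fact p.Prime] [CharP F p] {s : GL (Fin 2) F} (hs : IsSplit s) (hsp : Nat.Coprime (orderOf s) p)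
    (K : Subgroup (GL (Fin 2) F)) [Group.IsNilpotent K] (hsK : s ∈ K) (g : GL (Fin 2) F) :
    g * u0 F 2 * g⁻¹ ∉ K := by
  intro hu
  have hc : Commute s (g * u0 F 2 * g⁻¹) := commute_in K hsK hu
    (Nat.Coprime.coprime_dvd_right (orderOf_dvd_of_pow_eq_one (conj_u0_pow g p)) (Nat.Coprime.pow_right _ hsp))
  obtain ⟨-, hoff, hne⟩ := hs
  set u := ((g * u0 F 2 * g⁻¹ : GL (Fin 2) F) : Matrix (Fin 2) (Fin 2) F) with hu'
  set S := (s : Matrix (Fin 2) (Fin 2) F)
  have hc' : S * u = u * S := congrArg Units.val hc.eq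
  have h01 := congrFun (congrFun hc' 0) 1
  have h10 := congrFun (congrFun hc' 1) 0
  simp [Matrix.mul_apply, Fin.sum_univ_two, hoff] at h01 h10
  have e01 : u 0 1 = 0 := by
    by_contra h
    exact hne (mul_right_cancel₀ h (h01.trans (mul_comm _ _)))
  have e10 : u 1 0 = 0 := by
    by_contra h
    exact hne (mul_right_cancel₀ h (h10.trans (mul_comm _ _))).symm
  have hnil : (u - 1) ^ 2 = 0 := by
    rw [hu', coe_conj_sub_one, N0_pow_self, Matrix.mul_zero, Matrix.zero_mul]
  have e00 : u 0 0 = 1 := by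
    have := congrFun (congrFun hnil 0) 0
    simp [pow_two, Matrix.mul_apply, Fin.sum_univ_two, e01, e10] at this
    exact sub_eq_zero.1 this
  have e11 : u 1 1 = 1 := by
    have := congrFun (congrFun hnil 1) 1
    simp [pow_two, Matrix.mul_apply, Fin.sum_univ_two, e01, e10] at this
    exact sub_eq_zero.1 this
  have hu1 : g * u0 F 2 * g⁻¹ = 1 := Units.ext (by
    rw [← hu']
    ext i j
    fin_cases i <;> fin_cases j <;> simp [e01, e10, e00, e11])
  rw [conj_eq_one_iff] at hu1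
  have := congrArg (fun g : GL (Fin 2) F => (g : Matrix (Fin 2) (Fin 2) F) 0 1) hu1
  simp [coe_u0, N0] at this

theorem exists_diag (hq : 4 ≤ Fintype.card F) :
    ∃ c : Fˣ, orderOf c = Fintype.card F - 1 ∧ ∀ m : ℕ, ¬ Fintype.card F - 1 ∣ 2 * m →
      ∃ s : GL (Fin 2) F, IsSplit s ∧ orderOf s ∣ Fintype.card F - 1 ∧ orderOf s ∣ orderOf (c ^ m) := by
  classical
  obtain ⟨c, hc⟩ := IsCyclic.exists_ofOrder_eq_natCard (α := Fˣ)
  rw [Nat.card_units, Nat.card_eq_fintype_card] at hc
  refine ⟨c, hc, fun m hm => ?_⟩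
  let D : Fˣ →* GL (Fin 2) F :=
    (MonoidHom.mk ⟨fun b => Matrix.diagonal ![(b : F), ((b⁻¹ : Fˣ) : F)], by
        ext i j; fin_cases i <;> fin_cases j <;> simp⟩
      (fun x y => by
        rw [Matrix.diagonal_mul_diagonal]
        ext i j
        fin_cases i <;> fin_cases j <;> simp [mul_comm]) : Fˣ →* Matrix (Fin 2) (Fin 2) F).toHomUnits
  have hD : ∀ b : Fˣ, (D b : Matrix (Fin 2) (Fin 2) F) = Matrix.diagonal ![(b : F), ((b⁻¹ : Fˣ) : F)] :=
    fun b => rfl
  refine ⟨D (c ^ m), ⟨?_, ?_, ?_⟩, ?_, orderOf_map_dvd D _⟩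
  · rw [hD, Matrix.det_diagonal, Fin.prod_univ_two]
    simp only [cons_val_zero, cons_val_one]
    exact Units.mul_inv _
  · intro i j hij
    rw [hD, Matrix.diagonal_apply_ne _ hij]
  · rw [hD]
    simp only [Matrix.diagonal_apply_eq, cons_val_zero, cons_val_one]
    intro e
    apply hm
    rw [← hc]
    apply orderOf_dvd_of_pow_eq_one
    rw [two_mul, pow_add]
    exact mul_eq_one_iff_eq_inv.2 (Units.ext e)
  · exact ((orderOf_map_dvd D _).trans (orderOf_pow_dvd m)).trans hc.dvd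

/-- All the witnesses in dimension two. -/
theorem two_witnesses (p : ℕ) [Fact p.Prime] [CharP F p] (hq : 4 ≤ Fintype.card F) :
    ∃ (X : Tori F 2 → GL (Fin 2) F) (s : GL (Fin 2) F),
      (∀ a, Wit a (X a)) ∧ IsSplit s ∧ Nat.Coprime (orderOf s) p ∧
      (∀ a b, ∀ K : Subgroup (GL (Fin 2) F), Group.IsNilpotent K → X a ∈ K → X b ∈ K → a = b) ∧
      ∀ a, ∀ K : Subgroup (GL (Fin 2) F), Group.IsNilpotent K → X a ∈ K → s ∉ K := by
  set q := Fintype.card F with hqd
  have hcop : ∀ m, m ∣ q - 1 → Nat.Coprime m p := fun m hm => by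
    obtain ⟨k, -, hk⟩ := FiniteField.card F p
    refine Nat.Coprime.coprime_dvd_left hm ?_
    rw [Nat.coprime_comm, Nat.Prime.coprime_iff_not_dvd (Fact.out)]
    intro hd
    have hpq : p ∣ q := hqd ▸ hk ▸ dvd_pow_self p k.pos.ne'
    have := Nat.dvd_sub hpq hd
    rw [show q - (q - 1) = 1 by omega] at this
    exact (Fact.out : p.Prime).not_dvd_one this
  obtain ⟨c, hc, hsplit⟩ := exists_diag (F := F) hq
  by_cases hM : ∃ m : ℕ, q + 1 = 2 ^ m
  · obtain ⟨k, hk⟩ := hM
    haveI : Fact (Nat.Prime 2) := ⟨Nat.prime_two⟩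
    have hk2 : 3 ≤ k := by
      by_contra h
      have : 2 ^ k ≤ 2 ^ 2 := Nat.pow_le_pow_right (by norm_num) (by omega)
      omega
    have hq7 : 7 ≤ q := by
      have : 2 ^ 3 ≤ 2 ^ k := Nat.pow_le_pow_right (by norm_num) hk2
      omega
    have hqq : q ^ 2 - 1 = 2 ^ k * (q - 1) := by
      rw [← hk, show (1 : ℕ) = 1 ^ 2 from rfl, Nat.sq_sub_sq]
      simp
    obtain ⟨j, rfl⟩ : ∃ j, k = j + 1 := ⟨k - 1, by omega⟩
    have hj : 4 ≤ 2 ^ j := le_trans (by norm_num : 4 ≤ 2 ^ 2) (Nat.pow_le_pow_right (by norm_num) (by omega))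
    have hq1 : q - 1 = 2 * (2 ^ j - 1) := by rw [pow_succ] at hk; omega
    have hodd : Nat.Coprime (2 ^ j - 1) 2 := by
      rw [Nat.coprime_two_right, Nat.odd_iff]
      have : 2 ∣ 2 ^ j := dvd_pow_self 2 (by omega)
      omega
    have ex : ∀ a : Tori F 2, ∃ x, Wit a x ∧ orderOf x = 2 ^ (j + 1) := by
      intro a
      obtain ⟨g, hga, hgo⟩ := exists_generator a.2.1 a.2.2
      rw [← hqd, hqq] at hgo
      have ho : orderOf (g ^ (q - 1)) = 2 ^ (j + 1) := by
        rw [orderOf_pow_of_dvd (by omega) (by rw [hgo]; exact dvd_mul_left _ _), hgo,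
          Nat.mul_div_cancel _ (by omega)]
      refine ⟨_, ⟨?_, det_pow_eq_one g dvd_rfl, fun d h1 h2 e => ?_, ?_⟩, ho⟩
      · rw [Units.val_pow_eq_pow_val]; exact pow_mem hga _
      · obtain rfl : d = 1 := by omega
        have h := Nat.le_of_dvd (by rw [pow_one]; omega) (ho ▸ orderOf_dvd_of_pow_eq_one e)
        rw [pow_one] at h
        omega
      · rw [← orderOf_dvd_iff_pow_eq_one, ho, ← hqd, hqq]; exact dvd_mul_right _ _
    choose X hX using ex
    obtain ⟨s, hs, hso, hso'⟩ := hsplit 2 (fun h => by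
      rw [hq1] at h
      have := Nat.le_of_dvd (by norm_num) h
      have h2 : (2 ^ j - 1) ∣ 2 := (Nat.mul_dvd_mul_iff_left (by norm_num : 0 < 2)).1 h
      have := Nat.le_of_dvd (by norm_num) h2
      omega)
    have hso2 : orderOf s ∣ 2 ^ j - 1 := hso'.trans (by
      rw [orderOf_pow_of_dvd (by norm_num) (by rw [hc, hq1]; exact dvd_mul_right _ _), hc, hq1,
        Nat.mul_div_cancel_left _ (by norm_num)])
    refine ⟨X, s, fun a => (hX a).1, hs, hcop _ hso, fun a b K hK ha hb => ?_, fun a K hK ha hsK => ?_⟩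
    · obtain ⟨P, hP, -, hmem⟩ := exists_pPart K 2
      have hxP := hmem _ ha (j + 1) (by rw [← orderOf_dvd_iff_pow_eq_one, (hX a).2])
      have hyP := hmem _ hb (j + 1) (by rw [← orderOf_dvd_iff_pow_eq_one, (hX b).2])
      -- the part of `P` of determinant one
      set φ := Matrix.SpecialLinearGroup.toGL (n := Fin 2) (R := F) with hφ
      set P1 := P.comap φ
      have hP1 : IsPGroup 2 P1 := hP.comap_of_injective φ Matrix.SpecialLinearGroup.toGL_injective
      obtain ⟨S, hS⟩ := hP1.exists_le_sylow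
      have hcardSL : Nat.card (Matrix.SpecialLinearGroup (Fin 2) F) = q * (q ^ 2 - 1) := by
        rw [Cfsg.Agent.Lib.Classical.card_SL_two, ← hqd]
      have hScard : Nat.card (S : Subgroup (Matrix.SpecialLinearGroup (Fin 2) F)) = 2 ^ (j + 2) := by
        rw [S.card_eq_multiplicity, hcardSL, GLn.PGLTwoSylow.two_part_eq hk hq7]
      let xx : Matrix.SpecialLinearGroup (Fin 2) F := ⟨(X a : Matrix (Fin 2) (Fin 2) F), (hX a).1.det⟩
      let yy : Matrix.SpecialLinearGroup (Fin 2) F := ⟨(X b : Matrix (Fin 2) (Fin 2) F), (hX b).1.det⟩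
      have hxx : φ xx = X a := Units.ext rfl
      have hyy : φ yy = X b := Units.ext rfl
      have hxS : xx ∈ (S : Subgroup _) := hS (show φ xx ∈ P by rw [hxx]; exact hxP)
      have hyS : yy ∈ (S : Subgroup _) := hS (show φ yy ∈ P by rw [hyy]; exact hyP)
      have hord : orderOf xx = 2 ^ (j + 1) := by
        rw [← orderOf_injective φ Matrix.SpecialLinearGroup.toGL_injective, hxx, (hX a).2]
      set C : Subgroup (S : Subgroup (Matrix.SpecialLinearGroup (Fin 2) F)) := Subgroup.zpowers ⟨xx, hxS⟩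
      have hidx : C.index = 2 := by
        have := C.card_mul_index
        rw [Nat.card_zpowers, Subgroup.orderOf_mk, hord, hScard, pow_succ 2 (j + 1)] at this
        exact Nat.eq_of_mul_eq_mul_left (by positivity) this
      obtain ⟨m, hm⟩ := Subgroup.mem_zpowers_iff.1 (Subgroup.mul_self_mem_of_index_two hidx (⟨yy, hyS⟩ : ↥(S : Subgroup _)))
      have hm : (X a) ^ m = X b * X b := by
        have hm' := congrArg (φ.comp (S : Subgroup (Matrix.SpecialLinearGroup (Fin 2) F)).subtype) hm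
        rw [map_zpow, map_mul] at hm'
        simpa [hxx, hyy] using hm'
      have hc : Commute (X a) (X b * X b) := hm ▸ (Commute.refl (X a)).zpow_right m
      have hmem2 : ((X b * X b : GL (Fin 2) F) : Matrix (Fin 2) (Fin 2) F) ∈ a.1 :=
        (hX a).1.commute_mem (by norm_num) hc
      refine (Wit.unique (x := X b * X b) ⟨?_, ?_, fun d h1 h2 e => ?_, ?_⟩ (by norm_num) hmem2).symm
      · rw [Units.val_mul]; exact mul_mem (hX b).1.mem (hX b).1.mem
      · rw [Units.val_mul, Matrix.det_mul, (hX b).1.det, one_mul]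
      · obtain rfl : d = 1 := by omega
        rw [← pow_two, ← pow_mul, pow_one, ← orderOf_dvd_iff_pow_eq_one, (hX b).2, ← hqd, hq1, ← mul_assoc] at e
        have h4 : 2 ^ (j + 1) ∣ 4 := (Nat.Coprime.pow_left (j + 1) hodd.symm).dvd_of_dvd_mul_right e
        have := Nat.le_of_dvd (by norm_num) h4
        rw [pow_succ] at this
        omega
      · rw [← pow_two, ← pow_mul, mul_comm, pow_mul, (hX b).1.pow, one_pow]
    · refine split_eigen (a := a) hs ((hX a).1.commute_mem (by norm_num) (commute_in K ha hsK ?_))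
      rw [(hX a).2]
      exact (Nat.Coprime.pow_left _ hodd.symm).coprime_dvd_right hso2
  · obtain ⟨r, hr, hrd, hrp⟩ := Zsigmondy.exists_primitive_prime q 2 (by omega) (by norm_num) (by omega)
      (fun h => hM h.2)
    haveI : Fact r.Prime := ⟨hr⟩
    obtain ⟨X, hX, hsep⟩ := case_prime (F := F) (n := 2) le_rfl hrd hrp
    obtain ⟨s, hs, hso, -⟩ := hsplit 1 (fun h => by
      have := Nat.le_of_dvd (by norm_num) h
      omega)
    refine ⟨X, s, fun a => (hX a).1, hs, hcop _ hso, hsep, fun a K hK ha hsK => ?_⟩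
    refine split_eigen (a := a) hs ((hX a).1.commute_mem (by norm_num) (commute_in K ha hsK ?_))
    rw [(hX a).2]
    refine Nat.Coprime.coprime_dvd_right hso ?_
    rw [Nat.Prime.coprime_iff_not_dvd hr]
    simpa using hrp 1 one_pos (by norm_num)

end Cfsg.Agent.Lib.NilCover
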