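import Mathlib

/-!
# Maximal subfields of the matrix algebra
-/

set_option autoImplicit false

namespace Cfsg.Agent.Lib.NilCover

open Matrix Module

variable {F : Type*} [Field F] [Fintype F] {n : ℕ}

local notation "𝕄" => Matrix (Fin n) (Fin n) F

theorem exists_inv {a : Subalgebra F 𝕄} (ha : IsField a) {b : 𝕄} (hb : b ∈ a) (h0 : b ≠ 0) :
    ∃ c ∈ a, c * b = 1 := by
  obtain ⟨c, hc⟩ := ha.mul_inv_cancel (a := (⟨b, hb⟩ : a)) (fun h => h0 (congrArg Subtype.val h))
  rw [ha.mul_comm] at hc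
  exact ⟨c, c.2, congrArg Subtype.val hc⟩

theorem eq_zero_of_mulVec {a : Subalgebra F 𝕄} (ha : IsField a) {b : 𝕄} (hb : b ∈ a) {v : Fin n → F}
    (hv : v ≠ 0) (h : b *ᵥ v = 0) : b = 0 := by
  by_contra h0
  obtain ⟨c, -, hc⟩ := exists_inv ha hb h0
  apply hv
  rw [← one_mulVec v, ← hc, ← mulVec_mulVec, h, mulVec_zero]

/-- Evaluation at a vector. -/
noncomputable def ev (a : Subalgebra F 𝕄) (v : Fin n → F) : a →ₗ[F] (Fin n → F) where
  toFun b := (b : 𝕄) *ᵥ v
  map_add' x y := by simp [add_mulVec]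
  map_smul' c x := by simp [smul_mulVec]

theorem ev_injective {a : Subalgebra F 𝕄} (ha : IsField a) {v : Fin n → F} (hv : v ≠ 0) :
    Function.Injective (ev a v) := by
  rw [← LinearMap.ker_eq_bot, LinearMap.ker_eq_bot']
  intro b hb
  exact Subtype.ext (eq_zero_of_mulVec ha b.2 hv hb)

/-- The vector `Pi.single 0 1`. -/
theorem exists_ne_vec (hn : 0 < n) : ∃ v : Fin n → F, v ≠ 0 :=
  ⟨Pi.single ⟨0, hn⟩ 1, fun h => one_ne_zero ((Pi.single_eq_same _ _).symm.trans (congrFun h ⟨0, hn⟩))⟩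

/-- A subfield of degree `n` is its own centralizer. -/
theorem mem_of_commute {a : Subalgebra F 𝕄} (ha : IsField a) (hd : finrank F a = n) (hn : 0 < n) {c : 𝕄}
    (hc : ∀ b ∈ a, Commute b c) : c ∈ a := by
  obtain ⟨v, hv⟩ := exists_ne_vec (F := F) hn
  have hs : Function.Surjective (ev a v) :=
    (LinearMap.injective_iff_surjective_of_finrank_eq_finrank (by rw [hd, finrank_pi, Fintype.card_fin])).1
      (ev_injective ha hv)
  obtain ⟨b, hb⟩ := hs (c *ᵥ v)
  have hb : (b : 𝕄) *ᵥ v = c *ᵥ v := hb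
  suffices h : c = b by rw [h]; exact b.2
  apply Matrix.toLin'.injective
  apply LinearMap.ext
  intro w
  obtain ⟨b', rfl⟩ := hs w
  show c *ᵥ ((b' : 𝕄) *ᵥ v) = (b : 𝕄) *ᵥ ((b' : 𝕄) *ᵥ v)
  rw [mulVec_mulVec, ← (hc _ b'.2).eq, ← mulVec_mulVec, ← hb, mulVec_mulVec, mulVec_mulVec]
  exact congrArg (· *ᵥ v) (congrArg Subtype.val (ha.mul_comm b' b))

theorem natCard_eq {a : Subalgebra F 𝕄} : Nat.card a = Fintype.card F ^ finrank F a := by
  rw [Module.natCard_eq_pow_finrank (K := F), Nat.card_eq_fintype_card]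

theorem pow_card_eq_one {a : Subalgebra F 𝕄} (ha : IsField a) {b : 𝕄} (hb : b ∈ a) (h0 : b ≠ 0) :
    b ^ (Fintype.card F ^ finrank F a - 1) = 1 := by
  letI := ha.toField
  haveI : Finite a := inferInstance
  letI := Fintype.ofFinite a
  have h := FiniteField.pow_card_sub_one_eq_one (⟨b, hb⟩ : a) (fun e => h0 (congrArg Subtype.val e))
  rw [← Nat.card_eq_fintype_card, natCard_eq] at h
  exact congrArg Subtype.val h

/-- An element whose powers avoid the smaller subfields generates. -/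
theorem adjoin_eq {a : Subalgebra F 𝕄} (ha : IsField a) (hd : finrank F a = n) (hn : 0 < n) {x : 𝕄}
    (hx : x ∈ a) (hprim : ∀ d, 0 < d → d < n → x ^ (Fintype.card F ^ d - 1) ≠ 1) (hx0 : x ≠ 0) :
    Algebra.adjoin F {x} = a := by
  have hle : Algebra.adjoin F {x} ≤ a := Algebra.adjoin_le (Set.singleton_subset_iff.2 hx)
  haveI : Nonempty (Fin n) := ⟨⟨0, hn⟩⟩
  have hf : IsField (Algebra.adjoin F {x}) := by
    haveI : IsDomain a := ha.isDomain
    haveI : IsDomain (Algebra.adjoin F {x}) :=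
      Function.Injective.isDomain (Subalgebra.inclusion hle) (Subalgebra.inclusion_injective hle)
    letI : CommRing (Algebra.adjoin F {x}) :=
      { (inferInstance : Ring (Algebra.adjoin F {x})) with
        mul_comm := fun u v => Subalgebra.inclusion_injective hle (by rw [map_mul, map_mul, ha.mul_comm]) }
    exact Finite.isField_of_domain _
  refine Subalgebra.eq_of_le_of_finrank_le hle ?_
  rw [hd]
  by_contra hlt
  push Not at hlt
  refine hprim _ ?_ hlt (pow_card_eq_one hf (Algebra.self_mem_adjoin_singleton F x) hx0)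
  exact Module.finrank_pos

theorem mem_of_commute_gen {a : Subalgebra F 𝕄} (ha : IsField a) (hd : finrank F a = n) (hn : 0 < n) {x : 𝕄}
    (hx : x ∈ a) (hprim : ∀ d, 0 < d → d < n → x ^ (Fintype.card F ^ d - 1) ≠ 1) (hx0 : x ≠ 0)
    {c : 𝕄} (hc : Commute x c) : c ∈ a := by
  refine mem_of_commute ha hd hn fun b hb => ?_
  rw [← adjoin_eq ha hd hn hx hprim hx0] at hb
  exact Algebra.commute_of_mem_adjoin_singleton_of_commute hb hc.symm |>.symm

theorem eq_of_mem {a b : Subalgebra F 𝕄} (ha : IsField a) (hda : finrank F a = n) (hdb : finrank F b = n)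
    (hn : 0 < n) {x : 𝕄} (hx : x ∈ a) (hprim : ∀ d, 0 < d → d < n → x ^ (Fintype.card F ^ d - 1) ≠ 1)
    (hx0 : x ≠ 0) (hxb : x ∈ b) : a = b := by
  refine Subalgebra.eq_of_le_of_finrank_eq ?_ (hda.trans hdb.symm)
  rw [← adjoin_eq ha hda hn hx hprim hx0]
  exact Algebra.adjoin_le (Set.singleton_subset_iff.2 hxb)

theorem eigen {a : Subalgebra F 𝕄} (ha : IsField a) {x : 𝕄} (hx : x ∈ a) {v : Fin n → F} (hv : v ≠ 0)
    {c : F} (h : x *ᵥ v = c • v) : x = algebraMap F 𝕄 c := by
  refine sub_eq_zero.1 (eq_zero_of_mulVec ha (sub_mem hx (algebraMap_mem a c)) hv ?_)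
  rw [sub_mulVec, h, Algebra.algebraMap_eq_smul_one, smul_mulVec, one_mulVec, sub_self]

theorem not_scalar (hn : 2 ≤ n) {x : 𝕄} (hprim : ∀ d, 0 < d → d < n → x ^ (Fintype.card F ^ d - 1) ≠ 1)
    (hx0 : x ≠ 0) (c : F) : x ≠ algebraMap F 𝕄 c := by
  intro h
  subst h
  refine hprim 1 one_pos (by omega) ?_
  rw [pow_one, ← map_pow, FiniteField.pow_card_sub_one_eq_one c (fun e => hx0 (by rw [e, map_zero])), map_one]

/-- A matrix with no small invariant subspace generates a subfield of degree `n`. -/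
theorem irreducible_adjoin (hn : 2 ≤ n) (g : 𝕄)
    (h : ∀ W : Submodule F (Fin n → F), (∀ v ∈ W, g *ᵥ v ∈ W) → 1 ≤ finrank F W → n / 2 < finrank F W) :
    IsField (Algebra.adjoin F {g}) ∧ finrank F (Algebra.adjoin F {g}) = n := by
  set A := Algebra.adjoin F {g} with hA
  haveI : Nonempty (Fin n) := ⟨⟨0, by omega⟩⟩
  have hg : g ∈ A := Algebra.self_mem_adjoin_singleton F g
  have hcomm : ∀ b ∈ A, Commute g b := fun b hb => Algebra.commute_of_mem_adjoin_self hb
  have hrn : finrank F (Fin n → F) = n := by rw [finrank_pi, Fintype.card_fin]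
  have hinj : ∀ b ∈ A, b ≠ 0 → ∀ v : Fin n → F, b *ᵥ v = 0 → v = 0 := by
    intro b hb hb0 v hv
    by_contra hv0
    have hk := h (LinearMap.ker b.mulVecLin) (fun w hw => by
      rw [LinearMap.mem_ker, mulVecLin_apply] at hw ⊢
      rw [mulVec_mulVec, ← (hcomm b hb).eq, ← mulVec_mulVec, hw, mulVec_zero])
      (Submodule.one_le_finrank_iff.2 (fun e => hv0 ((Submodule.mem_bot F).1 (e ▸ LinearMap.mem_ker.2 hv))))
    have hr := h (LinearMap.range b.mulVecLin) (by
      rintro _ ⟨w, rfl⟩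
      exact ⟨g *ᵥ w, by simp only [mulVecLin_apply, mulVec_mulVec, (hcomm b hb).eq]⟩)
      (Submodule.one_le_finrank_iff.2 (fun e => hb0 (by
        apply Matrix.toLin'.injective
        apply LinearMap.ext
        intro w
        have : b *ᵥ w ∈ LinearMap.range b.mulVecLin := ⟨w, rfl⟩
        rw [e, Submodule.mem_bot] at this
        simpa using this)))
    have := LinearMap.finrank_range_add_finrank_ker b.mulVecLin
    rw [hrn] at this
    omega
  haveI : NoZeroDivisors A := ⟨fun {x y} hxy => by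
    by_contra hc
    push Not at hc
    refine hc.2 (Subtype.ext ?_)
    apply Matrix.toLin'.injective
    apply LinearMap.ext
    intro w
    have e : (x : 𝕄) *ᵥ ((y : 𝕄) *ᵥ w) = 0 := by
      rw [mulVec_mulVec, show (x : 𝕄) * (y : 𝕄) = 0 from congrArg Subtype.val hxy, zero_mulVec]
    simpa using hinj x x.2 (fun e => hc.1 (Subtype.ext e)) _ e⟩
  have hf : IsField A := by
    letI : CommRing A :=
      { (inferInstance : Ring A) with
        mul_comm := fun u v => Subtype.ext
          (Algebra.commute_of_mem_adjoin_singleton_of_commute v.2 (hcomm u u.2).symm).eq }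
    haveI : IsDomain A := NoZeroDivisors.to_isDomain _
    exact Finite.isField_of_domain _
  refine ⟨hf, ?_⟩
  obtain ⟨v, hv⟩ := exists_ne_vec (F := F) (show 0 < n by omega)
  have hinv : ∀ v : Fin n → F, ∀ w ∈ LinearMap.range (ev A v), g *ᵥ w ∈ LinearMap.range (ev A v) := by
    rintro v _ ⟨b, rfl⟩
    exact ⟨⟨g, hg⟩ * b, by simp [ev, mulVec_mulVec]⟩
  have hdim : ∀ v : Fin n → F, v ≠ 0 → finrank F (LinearMap.range (ev A v)) = finrank F A := fun v hv =>
    LinearMap.finrank_range_of_inj (ev_injective hf hv)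
  have hbig : ∀ v : Fin n → F, v ≠ 0 → n / 2 < finrank F A := fun v hv => hdim v hv ▸
    h _ (hinv v) (by rw [hdim v hv]; exact Module.finrank_pos)
  by_contra hne
  have hle : finrank F A ≤ n := by
    rw [← hdim v hv]
    exact (Submodule.finrank_le _).trans_eq hrn
  obtain ⟨w, -, hw⟩ : ∃ w ∈ (⊤ : Submodule F (Fin n → F)), w ∉ LinearMap.range (ev A v) :=
    SetLike.exists_of_lt (lt_top_iff_ne_top.2 fun e => hne (by
      rw [← hdim v hv, e, finrank_top, hrn]))
  have hw0 : w ≠ 0 := fun e => hw (e ▸ Submodule.zero_mem _)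
  have hdisj : LinearMap.range (ev A v) ⊓ LinearMap.range (ev A w) = ⊥ := by
    rw [eq_bot_iff]
    rintro _ ⟨⟨b, rfl⟩, ⟨b', hb'⟩⟩
    rw [Submodule.mem_bot]
    by_cases h0 : b' = 0
    · rw [← hb', h0, map_zero]
    exfalso
    obtain ⟨c, hcA, hc⟩ := exists_inv hf b'.2 (fun e => h0 (Subtype.ext e))
    refine hw ⟨⟨c, hcA⟩ * b, ?_⟩
    have hb' : (b' : 𝕄) *ᵥ w = (b : 𝕄) *ᵥ v := hb'
    show (c * (b : 𝕄)) *ᵥ v = w
    rw [← mulVec_mulVec, ← hb', mulVec_mulVec, hc, one_mulVec]
  have := Submodule.finrank_sup_add_finrank_inf_eq (LinearMap.range (ev A v)) (LinearMap.range (ev A w))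
  rw [hdisj, finrank_bot, add_zero, hdim v hv, hdim w hw0] at this
  have h2 := (Submodule.finrank_le (LinearMap.range (ev A v) ⊔ LinearMap.range (ev A w))).trans_eq hrn
  have := hbig v hv
  omega

/-- Generators of the multiplicative group of a subfield of degree `n`. -/
theorem exists_generator {a : Subalgebra F 𝕄} (ha : IsField a) (hd : finrank F a = n) :
    ∃ g : GL (Fin n) F, (g : 𝕄) ∈ a ∧ orderOf g = Fintype.card F ^ n - 1 := by
  letI := ha.toField
  haveI : Finite a := inferInstance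
  obtain ⟨g, hg⟩ := IsCyclic.exists_ofOrder_eq_natCard (α := (↥a)ˣ)
  refine ⟨Units.map (a.val : ↥a →* 𝕄) g, (g : ↥a).2, ?_⟩
  rw [orderOf_injective _ (Units.map_injective Subtype.val_injective), hg, Nat.card_units, natCard_eq, hd]

end Cfsg.Agent.Lib.NilCover
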