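import Mathlib

/-!
# Fixed flags of regular unipotent matrices
-/

set_option autoImplicit false

namespace Cfsg.Agent.Lib.NilCover

open Matrix

variable {F : Type*} [Field F] {n : ℕ}

/-- The vectors supported on the first `k` coordinates. -/
def E (k : ℕ) : Submodule F (Fin n → F) where
  carrier := {v | ∀ i : Fin n, k ≤ i.1 → v i = 0}
  add_mem' ha hb i hi := by simp [ha i hi, hb i hi]
  zero_mem' i _ := rfl
  smul_mem' c v hv i hi := by simp [hv i hi]

theorem mem_E {k : ℕ} {v : Fin n → F} : v ∈ E k ↔ ∀ i : Fin n, k ≤ i.1 → v i = 0 := Iff.rfl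

theorem E_top {k : ℕ} (h : n ≤ k) : (E k : Submodule F (Fin n → F)) = ⊤ :=
  eq_top_iff.2 fun v _ => mem_E.2 fun i hi => absurd hi (by omega)

theorem E_zero : (E 0 : Submodule F (Fin n → F)) = ⊥ :=
  eq_bot_iff.2 fun v hv => (Submodule.mem_bot F).2 (funext fun i => mem_E.1 hv i (Nat.zero_le _))

theorem E_mono {k l : ℕ} (h : k ≤ l) : (E k : Submodule F (Fin n → F)) ≤ E l :=
  fun v hv => mem_E.2 fun i hi => mem_E.1 hv i (h.trans hi)

/-- The shift matrix. -/
def N0 (F : Type*) [Field F] (n : ℕ) : Matrix (Fin n) (Fin n) F :=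
  Matrix.of fun i j => if j.1 = i.1 + 1 then 1 else 0

theorem N0_mulVec (v : Fin n → F) (i : Fin n) :
    (N0 F n *ᵥ v) i = if h : i.1 + 1 < n then v ⟨i.1 + 1, h⟩ else 0 := by
  simp only [mulVec, dotProduct, N0, Matrix.of_apply, ite_mul, one_mul, zero_mul]
  split
  · next h =>
    rw [Finset.sum_eq_single (⟨i.1 + 1, h⟩ : Fin n)]
    · simp
    · intro j _ hj
      rw [if_neg fun e => hj (Fin.ext e)]
    · simp
  · next h =>
    exact Finset.sum_eq_zero fun j _ => if_neg fun e => h (by have := j.2; omega)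

theorem pow_mulVec_eq_zero (k : ℕ) (v : Fin n → F) : (N0 F n ^ k) *ᵥ v = 0 ↔ v ∈ E k := by
  induction k generalizing v with
  | zero => rw [pow_zero, one_mulVec, E_zero, Submodule.mem_bot]
  | succ k ih =>
    rw [pow_succ, ← mulVec_mulVec, ih, mem_E, mem_E]
    constructor
    · intro h j hj
      have := h ⟨j.1 - 1, by omega⟩ (show k ≤ j.1 - 1 by omega)
      rw [N0_mulVec, dif_pos (show j.1 - 1 + 1 < n by omega)] at this
      rw [← this]
      congr 1
      ext
      show j.1 = j.1 - 1 + 1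
      omega
    · intro h i hi
      rw [N0_mulVec]
      split
      · exact h _ (by show k + 1 ≤ i.1 + 1; omega)
      · rfl

theorem N0_pow_self : N0 F n ^ n = 0 := by
  ext i j
  have := congrFun ((pow_mulVec_eq_zero n (Pi.single j (1 : F))).2 (by rw [E_top le_rfl]; exact Submodule.mem_top)) i
  simpa [mulVec_single] using this

theorem det_one_add_N0 : (1 + N0 F n).det = 1 := by
  rw [Matrix.det_of_isUpperTriangular]
  · refine Finset.prod_eq_one fun i _ => ?_
    simp [N0]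
  · intro i j hij
    have h : j.1 < i.1 := hij
    simp [N0, one_apply_ne (show i ≠ j from fun e => by subst e; omega),
      show ¬ j.1 = i.1 + 1 by omega]

/-- The standard regular unipotent matrix. -/
noncomputable def u0 (F : Type*) [Field F] (n : ℕ) : GL (Fin n) F :=
  Matrix.GeneralLinearGroup.mkOfDetNeZero (1 + N0 F n) (by rw [det_one_add_N0]; exact one_ne_zero)

theorem coe_u0 : (u0 F n : Matrix (Fin n) (Fin n) F) = 1 + N0 F n := rfl

/-- The flag of `g`. -/
noncomputable def Fl (g : GL (Fin n) F) (k : ℕ) : Submodule F (Fin n → F) :=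
  (E k).map (g : Matrix (Fin n) (Fin n) F).mulVecLin

theorem inv_mulVec_cancel (g : GL (Fin n) F) (v : Fin n → F) :
    ((g⁻¹ : GL (Fin n) F) : Matrix (Fin n) (Fin n) F) *ᵥ ((g : Matrix (Fin n) (Fin n) F) *ᵥ v) = v := by
  rw [mulVec_mulVec, Units.inv_mul, one_mulVec]

theorem mulVec_inv_cancel (g : GL (Fin n) F) (v : Fin n → F) :
    (g : Matrix (Fin n) (Fin n) F) *ᵥ (((g⁻¹ : GL (Fin n) F) : Matrix (Fin n) (Fin n) F) *ᵥ v) = v := by
  rw [mulVec_mulVec, Units.mul_inv, one_mulVec]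

theorem mem_Fl {g : GL (Fin n) F} {k : ℕ} {v : Fin n → F} :
    v ∈ Fl g k ↔ ((g⁻¹ : GL (Fin n) F) : Matrix (Fin n) (Fin n) F) *ᵥ v ∈ E k := by
  constructor
  · rintro ⟨w, hw, rfl⟩
    rwa [mulVecLin_apply, inv_mulVec_cancel]
  · intro h
    exact ⟨_, h, by rw [mulVecLin_apply, mulVec_inv_cancel]⟩

theorem coe_conj_sub_one (g : GL (Fin n) F) (k : ℕ) :
    (((g * u0 F n * g⁻¹ : GL (Fin n) F) : Matrix (Fin n) (Fin n) F) - 1) ^ k
      = (g : Matrix (Fin n) (Fin n) F) * N0 F n ^ k * ((g⁻¹ : GL (Fin n) F) : Matrix (Fin n) (Fin n) F) := by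
  induction k with
  | zero => rw [pow_zero, pow_zero, mul_one, Units.mul_inv]
  | succ k ih =>
    have e : ((g * u0 F n * g⁻¹ : GL (Fin n) F) : Matrix (Fin n) (Fin n) F) - 1
        = (g : Matrix (Fin n) (Fin n) F) * N0 F n * ((g⁻¹ : GL (Fin n) F) : Matrix (Fin n) (Fin n) F) := by
      rw [Units.val_mul, Units.val_mul, coe_u0, mul_add, mul_one, add_mul, Units.mul_inv, add_sub_cancel_left]
    rw [pow_succ, ih, e, pow_succ]
    simp only [Matrix.mul_assoc]
    rw [← Matrix.mul_assoc ((g⁻¹ : GL (Fin n) F) : Matrix (Fin n) (Fin n) F) (g : Matrix (Fin n) (Fin n) F),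
      Units.inv_mul, Matrix.one_mul]

theorem sub_one_pow_mulVec (g : GL (Fin n) F) (k : ℕ) (v : Fin n → F) :
    ((((g * u0 F n * g⁻¹ : GL (Fin n) F) : Matrix (Fin n) (Fin n) F) - 1) ^ k) *ᵥ v = 0 ↔ v ∈ Fl g k := by
  rw [coe_conj_sub_one, ← mulVec_mulVec, ← mulVec_mulVec, mem_Fl, ← pow_mulVec_eq_zero]
  constructor
  · intro h
    have := congrArg (((g⁻¹ : GL (Fin n) F) : Matrix (Fin n) (Fin n) F) *ᵥ ·) h
    simpa only [inv_mulVec_cancel, mulVec_zero] using this
  · intro h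
    rw [h, mulVec_zero]

theorem det_conj_u0 (g : GL (Fin n) F) :
    ((g * u0 F n * g⁻¹ : GL (Fin n) F) : Matrix (Fin n) (Fin n) F).det = 1 := by
  rw [Units.val_mul, Units.val_mul, Matrix.det_mul_right_comm, Units.mul_inv, Matrix.one_mul, coe_u0, det_one_add_N0]

theorem conj_u0_pow (g : GL (Fin n) F) (p : ℕ) [Fact p.Prime] [CharP F p] :
    (g * u0 F n * g⁻¹) ^ (p ^ n) = 1 := by
  rw [conj_pow]
  suffices h : u0 F n ^ (p ^ n) = 1 by rw [h, mul_one, mul_inv_cancel]
  apply Units.ext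
  rcases Nat.eq_zero_or_pos n with rfl | hn
  · exact Subsingleton.elim _ _
  haveI : Nonempty (Fin n) := ⟨⟨0, hn⟩⟩
  rw [Units.val_pow_eq_pow_val, coe_u0, add_pow_char_pow_of_commute (p := p) (n := n) (Commute.one_left _), one_pow,
    pow_eq_zero_of_le (Nat.lt_pow_self (Fact.out : p.Prime).one_lt).le N0_pow_self, add_zero]
  rfl

/-- A submodule strictly above `E k` inside `E (k+1)` is `E (k+1)`. -/
theorem eq_E_succ {k : ℕ} (hk : k < n) {W : Submodule F (Fin n → F)} (h1 : E k ≤ W) (h2 : W ≤ E (k + 1))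
    {v : Fin n → F} (hv : v ∈ W) (hv' : v ∉ E k) : W = E (k + 1) := by
  refine le_antisymm h2 fun w hw => ?_
  have hvk : v ⟨k, hk⟩ ≠ 0 := by
    intro h0
    refine hv' (mem_E.2 fun i hi => ?_)
    rcases eq_or_lt_of_le hi with e | l
    · rw [show i = ⟨k, hk⟩ from Fin.ext e.symm, h0]
    · exact mem_E.1 (h2 hv) i l
  have hd : w - (w ⟨k, hk⟩ / v ⟨k, hk⟩) • v ∈ E k := mem_E.2 fun i hi => by
    rcases eq_or_lt_of_le hi with e | l
    · rw [show i = ⟨k, hk⟩ from Fin.ext e.symm]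
      simp [div_mul_cancel₀ _ hvk]
    · simp [mem_E.1 hw i l, mem_E.1 (h2 hv) i l]
  have := W.add_mem (h1 hd) (W.smul_mem (w ⟨k, hk⟩ / v ⟨k, hk⟩) hv)
  simpa using this

variable [Finite F]

/-- A `p`-group fixes a vector outside any proper invariant subspace modulo that subspace. -/
theorem exists_fixed (p : ℕ) [Fact p.Prime] [CharP F p] (P : Subgroup (GL (Fin n) F)) (hP : IsPGroup p P)
    (W : Submodule F (Fin n → F)) (hW : W ≠ ⊤)
    (hinv : ∀ g ∈ P, ∀ v ∈ W, (g : Matrix (Fin n) (Fin n) F) *ᵥ v ∈ W) :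
    ∃ v, v ∉ W ∧ ∀ g ∈ P, (g : Matrix (Fin n) (Fin n) F) *ᵥ v - v ∈ W := by
  let act : ↥P → ((Fin n → F) ⧸ W) →ₗ[F] ((Fin n → F) ⧸ W) := fun g =>
    W.mapQ W ((g : GL (Fin n) F) : Matrix (Fin n) (Fin n) F).mulVecLin (fun v hv => hinv g g.2 v hv)
  letI : MulAction ↥P ((Fin n → F) ⧸ W) :=
    { smul := fun g x => act g x
      one_smul := fun x => by
        obtain ⟨v, rfl⟩ := Submodule.Quotient.mk_surjective _ x
        show act 1 _ = _
        simp [act]
      mul_smul := fun a b x => by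
        obtain ⟨v, rfl⟩ := Submodule.Quotient.mk_surjective _ x
        show act (a * b) _ = act a (act b _)
        show Submodule.Quotient.mk ((((a * b : ↥P) : GL (Fin n) F) : Matrix (Fin n) (Fin n) F) *ᵥ v)
          = Submodule.Quotient.mk (((a : GL (Fin n) F) : Matrix (Fin n) (Fin n) F) *ᵥ
            (((b : GL (Fin n) F) : Matrix (Fin n) (Fin n) F) *ᵥ v))
        rw [Subgroup.coe_mul, Units.val_mul, mulVec_mulVec] }
  haveI : Finite ((Fin n → F) ⧸ W) := Finite.of_surjective _ (Submodule.Quotient.mk_surjective W)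
  haveI : Nontrivial ((Fin n → F) ⧸ W) := Submodule.Quotient.nontrivial_iff.2 hW
  have hp : p ∣ Nat.card ((Fin n → F) ⧸ W) := by
    obtain ⟨w, hw⟩ := exists_ne (0 : (Fin n → F) ⧸ W)
    have h0 : p • w = 0 := by
      rw [← Nat.cast_smul_eq_nsmul F, CharP.cast_eq_zero, zero_smul]
    rw [← addOrderOf_eq_prime h0 hw]
    exact addOrderOf_dvd_natCard w
  have h0 : (0 : (Fin n → F) ⧸ W) ∈ MulAction.fixedPoints ↥P ((Fin n → F) ⧸ W) := by
    intro g
    show act g 0 = 0
    exact map_zero _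
  obtain ⟨b, hb, hb0⟩ := hP.exists_fixed_point_of_prime_dvd_card_of_fixed_point ((Fin n → F) ⧸ W) hp h0
  obtain ⟨v, rfl⟩ := Submodule.Quotient.mk_surjective _ b
  refine ⟨v, fun hv => hb0 ((Submodule.Quotient.mk_eq_zero W).2 hv).symm, fun g hg => ?_⟩
  exact (Submodule.Quotient.eq W).1 (hb ⟨g, hg⟩)

/-- Two regular unipotent elements in one `p`-group fix the same flag. -/
theorem flags_eq (p : ℕ) [Fact p.Prime] [CharP F p] (P : Subgroup (GL (Fin n) F)) (hP : IsPGroup p P)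
    (g h : GL (Fin n) F) (hg : g * u0 F n * g⁻¹ ∈ P) (hh : h * u0 F n * h⁻¹ ∈ P) : Fl g = Fl h := by
  suffices key : ∀ k, Fl g k = Fl h k ∧ ∀ x ∈ P, ∀ v ∈ Fl g k, (x : Matrix (Fin n) (Fin n) F) *ᵥ v ∈ Fl g k from
    funext fun k => (key k).1
  intro k
  induction k with
  | zero =>
    have e : ∀ g : GL (Fin n) F, Fl g 0 = ⊥ := fun g => by rw [Fl, E_zero, Submodule.map_bot]
    refine ⟨by rw [e, e], fun x _ v hv => ?_⟩
    rw [e, Submodule.mem_bot] at hv ⊢
    rw [hv, mulVec_zero]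
  | succ k ih =>
    obtain ⟨heq, hinv⟩ := ih
    have etop : ∀ (g : GL (Fin n) F) {k : ℕ}, n ≤ k → Fl g k = ⊤ := fun g k hk =>
      eq_top_iff.2 fun v _ => mem_Fl.2 (E_top (F := F) hk ▸ Submodule.mem_top)
    by_cases hk : k < n
    swap
    · rw [etop g (show n ≤ k + 1 by omega), etop h (show n ≤ k + 1 by omega)]
      exact ⟨rfl, fun _ _ _ _ => Submodule.mem_top⟩
    have hne : Fl g k ≠ ⊤ := by
      intro e
      have := mem_E.1 (mem_Fl.1 (e ▸ Submodule.mem_top :
        (g : Matrix (Fin n) (Fin n) F) *ᵥ (Pi.single (⟨k, hk⟩ : Fin n) (1 : F)) ∈ Fl g k)) ⟨k, hk⟩ le_rfl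
      rw [inv_mulVec_cancel, Pi.single_eq_same] at this
      exact one_ne_zero this
    obtain ⟨v, hv, hfix⟩ := exists_fixed p P hP (Fl g k) hne hinv
    let W : Submodule F (Fin n → F) :=
      { carrier := {w | ∀ x ∈ P, (x : Matrix (Fin n) (Fin n) F) *ᵥ w - w ∈ Fl g k}
        add_mem' := fun {a b} ha hb x hx => by
          rw [mulVec_add, add_sub_add_comm]
          exact add_mem (ha x hx) (hb x hx)
        zero_mem' := fun x _ => by simp
        smul_mem' := fun c a ha x hx => by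
          rw [mulVec_smul, ← smul_sub]
          exact Submodule.smul_mem _ c (ha x hx) }
    have sub : ∀ l : GL (Fin n) F, l * u0 F n * l⁻¹ ∈ P → Fl l k = Fl g k → W = Fl l (k + 1) := by
      intro l hl hlk
      have h2 : W ≤ Fl l (k + 1) := by
        intro w hw
        rw [← sub_one_pow_mulVec, pow_succ, ← mulVec_mulVec, sub_one_pow_mulVec, hlk, sub_mulVec, one_mulVec]
        exact hw _ hl
      have h1 : Fl l k ≤ W := fun w hw x hx =>
        sub_mem (hinv x hx w (hlk ▸ hw)) (hlk ▸ hw)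
      have key := eq_E_succ (W := W.comap (l : Matrix (Fin n) (Fin n) F).mulVecLin) hk
        (fun w hw => h1 ⟨w, hw, rfl⟩)
        (fun w hw => by
          have := mem_Fl.1 (h2 hw)
          rwa [mulVecLin_apply, inv_mulVec_cancel] at this)
        (v := ((l⁻¹ : GL (Fin n) F) : Matrix (Fin n) (Fin n) F) *ᵥ v)
        (by rw [Submodule.mem_comap, mulVecLin_apply, mulVec_inv_cancel]; exact hfix)
        (fun h' => hv (hlk ▸ mem_Fl.2 h'))
      ext w
      rw [mem_Fl, ← key, Submodule.mem_comap, mulVecLin_apply, mulVec_inv_cancel]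
    have hW := sub g hg rfl
    refine ⟨hW ▸ sub h hh heq.symm, fun x hx w hw => ?_⟩
    rw [← hW] at hw ⊢
    have := W.add_mem (show (x : Matrix (Fin n) (Fin n) F) *ᵥ w - w ∈ W from
      fun y hy => sub_mem (hinv y hy _ (hw x hx)) (hw x hx)) hw
    simpa using this

end Cfsg.Agent.Lib.NilCover
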