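import Cfsg.Agent.Lib.NilCover.Flag
import Cfsg.Agent.Lib.NilCover.Field
import Cfsg.Agent.Lib.GLn.LargePrimeSylow
import Cfsg.Agent.Lib.Zsigmondy

/-!
# Elements of `SL_n(q)` lying in no common nilpotent subgroup of `GL_n(q)`
-/

set_option autoImplicit false

namespace Cfsg.Agent.Lib.NilCover

open Matrix Module

variable {F : Type*} [Field F] [Fintype F] {n : ℕ}

local notation "𝕄" => Matrix (Fin n) (Fin n) F

/-- The subfields of degree `n`. -/
def Tori (F : Type*) [Field F] (n : ℕ) : Type _ :=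
  {a : Subalgebra F (Matrix (Fin n) (Fin n) F) // IsField a ∧ finrank F a = n}

instance : Finite (Tori F n) := by
  unfold Tori
  haveI : Finite (Subalgebra F 𝕄) := Finite.of_injective (fun a => (a : Set 𝕄)) SetLike.coe_injective
  exact Subtype.finite

theorem coprime_commute {G : Type*} [Group G] [Finite G] [Group.IsNilpotent G] {x y : G}
    (h : Nat.Coprime (orderOf x) (orderOf y)) : Commute x y := by
  obtain ⟨φ⟩ := ((Group.isNilpotent_of_finite_tfae (G := G)).out 0 4 rfl rfl).1 ‹Group.IsNilpotent G›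
  apply φ.symm.injective.eq_iff.1
  rw [map_mul, map_mul]
  funext p P
  have hpP : Fact (p : ℕ).Prime := ⟨Nat.prime_of_mem_primeFactors p.2⟩
  obtain ⟨k, hk⟩ := IsPGroup.iff_orderOf.1 P.isPGroup' (φ.symm x p P)
  obtain ⟨l, hl⟩ := IsPGroup.iff_orderOf.1 P.isPGroup' (φ.symm y p P)
  have hx : orderOf (φ.symm x p P) ∣ orderOf x := orderOf_dvd_of_pow_eq_one (by
    have := congrFun (congrFun (map_pow φ.symm x (orderOf x)) p) P
    rw [pow_orderOf_eq_one, map_one] at this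
    exact this.symm)
  have hy : orderOf (φ.symm y p P) ∣ orderOf y := orderOf_dvd_of_pow_eq_one (by
    have := congrFun (congrFun (map_pow φ.symm y (orderOf y)) p) P
    rw [pow_orderOf_eq_one, map_one] at this
    exact this.symm)
  show φ.symm x p P * φ.symm y p P = φ.symm y p P * φ.symm x p P
  rcases Nat.eq_zero_or_pos k with rfl | hk0
  · rw [pow_zero, orderOf_eq_one_iff] at hk
    rw [hk, one_mul, mul_one]
  rcases Nat.eq_zero_or_pos l with rfl | hl0
  · rw [pow_zero, orderOf_eq_one_iff] at hl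
    rw [hl, one_mul, mul_one]
  exfalso
  have h1 : (p : ℕ) ∣ orderOf x := (hk ▸ dvd_pow_self (p : ℕ) hk0.ne').trans hx
  have h2 : (p : ℕ) ∣ orderOf y := (hl ▸ dvd_pow_self (p : ℕ) hl0.ne').trans hy
  exact hpP.out.not_dvd_one (h ▸ Nat.dvd_gcd h1 h2)

theorem commute_in {G : Type*} [Group G] [Finite G] (K : Subgroup G) [Group.IsNilpotent K] {x y : G}
    (hx : x ∈ K) (hy : y ∈ K) (h : Nat.Coprime (orderOf x) (orderOf y)) : Commute x y := by
  have := coprime_commute (x := (⟨x, hx⟩ : K)) (y := ⟨y, hy⟩) (by rwa [Subgroup.orderOf_mk, Subgroup.orderOf_mk])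
  exact congrArg Subtype.val this.eq

/-- The `p`-elements of a nilpotent subgroup lie in one `p`-subgroup. -/
theorem exists_pPart {G : Type*} [Group G] [Finite G] (K : Subgroup G) [Group.IsNilpotent K] (p : ℕ)
    [Fact p.Prime] : ∃ P : Subgroup G, IsPGroup p P ∧ P ≤ K ∧ ∀ x ∈ K, ∀ k, x ^ (p ^ k) = 1 → x ∈ P := by
  obtain ⟨S⟩ : Nonempty (Sylow p K) := Sylow.nonempty
  haveI : (S : Subgroup K).Normal := inferInstance
  refine ⟨(S : Subgroup K).map K.subtype, S.isPGroup'.map _, Subgroup.map_subtype_le _, fun x hx k hk => ?_⟩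
  have hp : IsPGroup p (Subgroup.zpowers (⟨x, hx⟩ : K)) := by
    intro y
    obtain ⟨m, hm⟩ := Subgroup.mem_zpowers_iff.1 y.2
    refine ⟨k, Subtype.ext ?_⟩
    rw [SubmonoidClass.coe_pow, ← hm, ← zpow_natCast, ← _root_.zpow_mul, mul_comm m, _root_.zpow_mul, zpow_natCast,
      show (⟨x, hx⟩ : K) ^ p ^ k = 1 from Subtype.ext (by rw [SubmonoidClass.coe_pow]; exact hk), _root_.one_zpow]
    rfl
  obtain ⟨T, hT⟩ := hp.exists_le_sylow
  letI := Sylow.unique_of_normal S inferInstance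
  rw [Subsingleton.elim T S] at hT
  exact ⟨_, hT (Subgroup.mem_zpowers _), rfl⟩

/-- A generator of the norm one part of a torus, or a power of it, avoiding all smaller subfields. -/
structure Wit (a : Tori F n) (x : GL (Fin n) F) : Prop where
  mem : (x : 𝕄) ∈ a.1
  det : (x : 𝕄).det = 1
  prim : ∀ d, 0 < d → d < n → x ^ (Fintype.card F ^ d - 1) ≠ 1
  pow : x ^ (Fintype.card F ^ n - 1) = 1

theorem Wit.prim' {a : Tori F n} {x : GL (Fin n) F} (h : Wit a x) :
    ∀ d, 0 < d → d < n → (x : 𝕄) ^ (Fintype.card F ^ d - 1) ≠ 1 := fun d h1 h2 e =>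
  h.prim d h1 h2 (Units.ext (by rw [Units.val_pow_eq_pow_val]; exact e))

theorem Wit.commute_mem {a : Tori F n} {x c : GL (Fin n) F} (h : Wit a x) (hn : 0 < n) (hc : Commute x c) :
    (c : 𝕄) ∈ a.1 := by
  haveI : Nonempty (Fin n) := ⟨⟨0, hn⟩⟩
  exact mem_of_commute_gen a.2.1 a.2.2 hn h.mem h.prim' x.ne_zero (congrArg Units.val hc.eq)

theorem Wit.unique {a b : Tori F n} {x : GL (Fin n) F} (h : Wit a x) (hn : 0 < n) (hb : (x : 𝕄) ∈ b.1) :
    a = b := by
  haveI : Nonempty (Fin n) := ⟨⟨0, hn⟩⟩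
  exact Subtype.ext (eq_of_mem a.2.1 a.2.2 b.2.2 hn h.mem h.prim' x.ne_zero hb)

/-- No nilpotent subgroup contains a witness and a regular unipotent element. -/
theorem sep_unip (p : ℕ) [Fact p.Prime] [CharP F p] (hn : 2 ≤ n) {a : Tori F n} {x : GL (Fin n) F} (h : Wit a x)
    (K : Subgroup (GL (Fin n) F)) [Group.IsNilpotent K] (hx : x ∈ K) (g : GL (Fin n) F) :
    g * u0 F n * g⁻¹ ∉ K := by
  intro hu
  haveI : Nonempty (Fin n) := ⟨⟨0, by omega⟩⟩
  have hc : Commute x (g * u0 F n * g⁻¹) := by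
    refine commute_in K hx hu (Nat.Coprime.coprime_dvd_left (orderOf_dvd_of_pow_eq_one h.pow)
      (Nat.Coprime.coprime_dvd_right (orderOf_dvd_of_pow_eq_one (conj_u0_pow g p)) (Nat.Coprime.pow_right _ ?_)))
    obtain ⟨m, -, hm⟩ := FiniteField.card F p
    rw [Nat.coprime_comm, Nat.Prime.coprime_iff_not_dvd (Fact.out)]
    intro hd
    have hpq : p ∣ Fintype.card F ^ n := dvd_pow (hm ▸ dvd_pow_self p m.pos.ne') (by omega)
    have := (Nat.dvd_sub hpq hd)
    rw [Nat.sub_sub_self (Nat.one_le_pow _ _ Fintype.card_pos)] at this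
    exact (Fact.out : p.Prime).not_dvd_one this
  set e : Fin n → F := (g : 𝕄) *ᵥ Pi.single (⟨0, by omega⟩ : Fin n) (1 : F) with hedef
  have hv : e ≠ 0 := fun h0 => by
    have := congrArg (((g⁻¹ : GL (Fin n) F) : 𝕄) *ᵥ ·) h0
    simp only [hedef, inv_mulVec_cancel, mulVec_zero] at this
    exact one_ne_zero ((Pi.single_eq_same _ _).symm.trans (congrFun this ⟨0, by omega⟩))
  have hE : e ∈ Fl g 1 := by
    rw [hedef, mem_Fl, inv_mulVec_cancel, mem_E]
    exact fun i hi => Pi.single_eq_of_ne (fun e => by subst e; simp at hi) _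
  have hxE : (x : 𝕄) *ᵥ e ∈ Fl g 1 := by
    have h1 := (sub_one_pow_mulVec g 1 e).2 hE
    rw [← sub_one_pow_mulVec]
    have h2 : Commute (x : 𝕄) ((((g * u0 F n * g⁻¹ : GL (Fin n) F) : 𝕄) - 1) ^ 1) :=
      (Commute.sub_right (congrArg Units.val hc.eq) (Commute.one_right _)).pow_right 1
    rw [mulVec_mulVec, ← h2.eq, ← mulVec_mulVec, h1, mulVec_zero]
  rw [mem_Fl, mem_E] at hxE
  refine not_scalar hn h.prim' x.ne_zero _ (eigen a.2.1 h.mem hv
    (c := (((g⁻¹ : GL (Fin n) F) : 𝕄) *ᵥ ((x : 𝕄) *ᵥ e)) ⟨0, by omega⟩) ?_)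
  conv_lhs => rw [← mulVec_inv_cancel g ((x : 𝕄) *ᵥ e)]
  conv_rhs => rw [hedef, ← mulVec_smul]
  congr 1
  funext i
  by_cases hi : i.1 = 0
  · rw [show i = ⟨0, by omega⟩ from Fin.ext hi]; simp [hedef]
  · rw [hxE i (by omega)]
    simp [Pi.single_eq_of_ne (show i ≠ ⟨0, by omega⟩ from fun e => hi (congrArg Fin.val e))]

theorem det_pow_eq_one (g : GL (Fin n) F) {m : ℕ} (hm : Fintype.card F - 1 ∣ m) :
    ((g ^ m : GL (Fin n) F) : 𝕄).det = 1 := by
  obtain ⟨k, rfl⟩ := hm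
  rw [Units.val_pow_eq_pow_val, Matrix.det_pow, pow_mul,
    FiniteField.pow_card_sub_one_eq_one _ ((Matrix.isUnit_iff_isUnit_det _).1 g.isUnit).ne_zero, one_pow]

theorem natSub_dvd (q n : ℕ) : q - 1 ∣ q ^ n - 1 := by
  simpa using Nat.sub_dvd_pow_sub_pow q 1 n

/-- The primitive prime case. -/
theorem case_prime (hn : 2 ≤ n) {r : ℕ} [Fact r.Prime] (hr : r ∣ Fintype.card F ^ n - 1)
    (hprim : ∀ d, 0 < d → d < n → ¬ r ∣ Fintype.card F ^ d - 1) :
    ∃ X : Tori F n → GL (Fin n) F, (∀ a, Wit a (X a) ∧ orderOf (X a) = r) ∧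
      ∀ a b, ∀ K : Subgroup (GL (Fin n) F), Group.IsNilpotent K → X a ∈ K → X b ∈ K → a = b := by
  set q := Fintype.card F with hq
  have hq1 : 1 < q := Fintype.one_lt_card
  have hrq : ¬ r ∣ q := fun h => by
    have := Nat.dvd_sub (dvd_pow h (show n ≠ 0 by omega)) hr
    rw [Nat.sub_sub_self (Nat.one_le_pow _ _ (by omega))] at this
    exact (Fact.out : r.Prime).not_dvd_one this
  have hrn : n < r := by
    have hz : (q : ZMod r) ≠ 0 := fun h => hrq ((ZMod.natCast_eq_zero_iff q r).1 h)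
    have hle : orderOf (q : ZMod r) ≤ r - 1 := Nat.le_of_dvd (by have := (Fact.out : r.Prime).two_le; omega)
      (ZMod.orderOf_dvd_card_sub_one hz)
    have hge : n ≤ orderOf (q : ZMod r) := by
      by_contra hlt
      push Not at hlt
      exact hprim _ (GLn.LargeSylow.order_pos hrq) hlt ((GLn.LargeSylow.dvd_pow_sub_one_iff hq1 _).2 dvd_rfl)
    have := (Fact.out : r.Prime).two_le
    omega
  have hpos : 0 < q ^ n - 1 := by
    have : 1 < q ^ n := Nat.one_lt_pow (by omega) hq1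
    omega
  have ex : ∀ a : Tori F n, ∃ x, Wit a x ∧ orderOf x = r := by
    intro a
    obtain ⟨g, hga, hgo⟩ := exists_generator a.2.1 a.2.2
    have ho : orderOf (g ^ ((q ^ n - 1) / r)) = r := by
      rw [orderOf_pow_of_dvd (Nat.div_pos (Nat.le_of_dvd hpos hr) (Fact.out : r.Prime).pos).ne'
        (by rw [hgo]; exact Nat.div_dvd_of_dvd hr), hgo, Nat.div_div_self hr hpos.ne']
    refine ⟨_, ⟨?_, ?_, fun d h1 h2 e => hprim d h1 h2 (ho ▸ orderOf_dvd_of_pow_eq_one e), ?_⟩, ho⟩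
    · rw [Units.val_pow_eq_pow_val]; exact pow_mem hga _
    · refine det_pow_eq_one g ?_
      have hco : Nat.Coprime (q - 1) r := by
        rw [Nat.coprime_comm, Nat.Prime.coprime_iff_not_dvd (Fact.out)]
        simpa using hprim 1 one_pos (by omega)
      refine hco.dvd_of_dvd_mul_left ?_
      rw [Nat.mul_div_cancel' hr]
      exact natSub_dvd q n
    · rw [← orderOf_dvd_iff_pow_eq_one, ho]; exact hr
  choose X hX using ex
  refine ⟨X, hX, fun a b K hK ha hb => ?_⟩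
  obtain ⟨P, hP, -, hmem⟩ := exists_pPart K r
  have hx := hmem _ ha 1 (by rw [pow_one, ← orderOf_dvd_iff_pow_eq_one, (hX a).2])
  have hy := hmem _ hb 1 (by rw [pow_one, ← orderOf_dvd_iff_pow_eq_one, (hX b).2])
  obtain ⟨S, hS⟩ := hP.exists_le_sylow
  obtain ⟨e⟩ := GLn.LargeSylow.gl_sylow n hrn hrq S
  have hc : Commute (X a) (X b) := congrArg Subtype.val
    (e.injective (by rw [map_mul, map_mul, mul_comm]) : (⟨X a, hS hx⟩ : ↥(S : Subgroup (GL (Fin n) F))) * ⟨X b, hS hy⟩ = ⟨X b, hS hy⟩ * ⟨X a, hS hx⟩)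
  exact ((hX b).1.unique (by omega) ((hX a).1.commute_mem (by omega) hc)).symm

/-- The case `(q, n) = (2, 6)`. -/
theorem case_two_six (h2 : Fintype.card F = 2) :
    ∃ X : Tori F 6 → GL (Fin 6) F, (∀ a, Wit a (X a)) ∧
      ∀ a b, ∀ K : Subgroup (GL (Fin 6) F), Group.IsNilpotent K → X a ∈ K → X b ∈ K → a = b := by
  haveI : Fact (Nat.Prime 3) := ⟨Nat.prime_three⟩
  have ex : ∀ a : Tori F 6, ∃ x, Wit a x ∧ orderOf x = 63 := by
    intro a
    obtain ⟨g, hga, hgo⟩ := exists_generator a.2.1 a.2.2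
    have ho : orderOf g = 63 := by rw [hgo, h2]; norm_num
    refine ⟨g, ⟨hga, ?_, fun d h1 h2' e => ?_, ?_⟩, ho⟩
    · have := det_pow_eq_one g (m := 1) (by rw [h2])
      rwa [pow_one] at this
    · have := ho ▸ orderOf_dvd_of_pow_eq_one e
      rw [h2] at this
      interval_cases d <;> norm_num at this
    · rw [← orderOf_dvd_iff_pow_eq_one, ho, h2]; norm_num
  choose X hX using ex
  refine ⟨X, fun a => (hX a).1, fun a b K hK ha hb => ?_⟩
  obtain ⟨P, hP, hPK, hmem⟩ := exists_pPart K 3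
  have h7 : ∀ c : Tori F 6, X c ∈ K → X c ^ 7 ∈ P := fun c hc => hmem _ (pow_mem hc 7) 2 (by
    rw [← pow_mul, ← orderOf_dvd_iff_pow_eq_one, (hX c).2]; norm_num)
  haveI : Nontrivial P := by
    rw [Subgroup.nontrivial_iff_ne_bot]
    intro e
    have := h7 a ha
    rw [e, Subgroup.mem_bot, ← orderOf_dvd_iff_pow_eq_one, (hX a).2] at this
    norm_num at this
  haveI : Nontrivial (Subgroup.center P) := hP.center_nontrivial
  obtain ⟨z, hz⟩ := exists_prime_orderOf_dvd_card' (G := Subgroup.center P) 3 (by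
    obtain ⟨m, hm⟩ := IsPGroup.iff_card.1 (hP.to_subgroup (Subgroup.center P))
    rw [hm]
    refine dvd_pow_self 3 fun e => ?_
    rw [e, pow_zero] at hm
    exact (Finite.one_lt_card (α := Subgroup.center P)).ne' hm)
  have hzo : orderOf ((z : P) : GL (Fin 6) F) = 3 := by rw [Subgroup.orderOf_coe, Subgroup.orderOf_coe, hz]
  have h6 : 0 < 6 := by norm_num
  have hwit7 : ∀ c : Tori F 6, Wit c (X c ^ 7) := fun c => by
    refine ⟨?_, ?_, fun d h1 h2' e => ?_, ?_⟩
    · rw [Units.val_pow_eq_pow_val]; exact pow_mem (hX c).1.mem _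
    · exact det_pow_eq_one _ (by rw [h2]; norm_num)
    · rw [← pow_mul, ← orderOf_dvd_iff_pow_eq_one, (hX c).2, h2] at e
      interval_cases d <;> norm_num at e
    · rw [← pow_mul, ← orderOf_dvd_iff_pow_eq_one, (hX c).2, h2]; norm_num
  have hzc : ∀ c : Tori F 6, X c ∈ K → (((z : P) : GL (Fin 6) F) : Matrix (Fin 6) (Fin 6) F) ∈ c.1 := fun c hc => by
    refine (hwit7 c).commute_mem h6 ?_
    exact congrArg Subtype.val (Subgroup.mem_center_iff.1 z.2 ⟨_, h7 c hc⟩)
  have h9 : ∀ c : Tori F 6, orderOf (X c ^ 9) = 7 := fun c => by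
    rw [orderOf_pow_of_dvd (by norm_num) (by rw [(hX c).2]; norm_num), (hX c).2]
  have h79 : Commute (X a ^ 7) (X b ^ 9) := commute_in K (pow_mem ha 7) (pow_mem hb 9) (by
    rw [orderOf_pow_of_dvd (by norm_num) (by rw [(hX a).2]; norm_num), (hX a).2, h9]
    norm_num)
  -- the element `z * (X b) ^ 9` of order `21` generates both fields
  set w := ((z : P) : GL (Fin 6) F) * X b ^ 9
  have hwb : (w : Matrix (Fin 6) (Fin 6) F) ∈ b.1 := by
    rw [Units.val_mul, Units.val_pow_eq_pow_val]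
    exact mul_mem (hzc b hb) (pow_mem (hX b).1.mem _)
  have hwa : (w : Matrix (Fin 6) (Fin 6) F) ∈ a.1 := by
    rw [Units.val_mul]
    exact mul_mem (hzc a ha) ((hwit7 a).commute_mem h6 h79)
  have hcw : Commute ((z : P) : GL (Fin 6) F) (X b ^ 9) := commute_in K (hPK (z : P).2) (pow_mem hb 9) (by
    rw [hzo, h9]; norm_num)
  have hwo : orderOf w = 21 := by
    rw [hcw.orderOf_mul_eq_mul_orderOf_of_coprime (by rw [hzo, h9]; norm_num), hzo, h9]
  refine Wit.unique (x := w) ⟨hwa, ?_, fun d h1 h2' e => ?_, ?_⟩ h6 hwb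
  · have := det_pow_eq_one w (m := 1) (by rw [h2])
    rwa [pow_one] at this
  · have := hwo ▸ orderOf_dvd_of_pow_eq_one e
    rw [h2] at this
    interval_cases d <;> norm_num at this
  · rw [← orderOf_dvd_iff_pow_eq_one, hwo, h2]; norm_num

end Cfsg.Agent.Lib.NilCover
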